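import Cfsg.Agent.FT.BG16.Defs
import Cfsg.Agent.OddLocal.Basic
import Cfsg.Agent.Cores.Fitting

/-!
From the working type I to the frozen one, for groups with fixed-point-free action on `M_F`.
-/

set_option autoImplicit false

namespace Cfsg.Agent.FT.BG16

open Subgroup

variable {G : Type*} [Group G] [Finite G]

theorem isOfTypeI_of_typeI' {M : Subgroup G} (h : IsOfTypeI' M)
    (hfrob : ∀ x ∈ Cfsg.fittingHallOf M, x ≠ 1 →
      M ⊓ centralizer ({x} : Set G) ≤ Cfsg.fittingHallOf M) : Cfsg.IsOfTypeI M := by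
  refine ⟨h.1, h.2.imp_right (Or.imp_right fun hc => ⟨hc.1, ?_⟩)⟩
  obtain ⟨p, hp, hd, hcyc⟩ := hc.2
  have : Fact p.Prime := ⟨hp⟩
  refine ⟨p, hp, hd, ?_⟩
  have hd' : p ∣ Nat.card (Cfsg.fittingHall M) := by
    rwa [Cfsg.fittingHallOf, card_map_of_injective M.subtype_injective] at hd
  have hle : Cfsg.fittingHall M ≤ Cfsg.fittingSubgroup M :=
    sSup_le fun N hN => Cores.le_fittingSubgroup hN.1 hN.2.1
  have := Cores.fittingSubgroup_isNilpotent (G := M)
  have : Group.IsNilpotent (Cfsg.fittingHall M) :=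
    Group.nilpotent_of_mulEquiv (Subgroup.subgroupOfEquivOfLe hle)
  obtain ⟨S⟩ : Nonempty (Sylow p (Cfsg.fittingHall M)) := inferInstance
  have hSn : (S : Subgroup (Cfsg.fittingHall M)).Normal :=
    Sylow.normal_of_normalizerCondition Group.normalizerCondition_of_isNilpotent S
  have : (S : Subgroup (Cfsg.fittingHall M)).Characteristic := S.characteristic_of_normal hSn
  set T := (S : Subgroup (Cfsg.fittingHall M)).map (Cfsg.fittingHall M).subtype with hT
  have hTn : T.Normal := ConjAct.normal_of_characteristic_of_normal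
  obtain ⟨s, hs, hs1⟩ := (Subgroup.bot_or_exists_ne_one (S : Subgroup (Cfsg.fittingHall M))).resolve_left
    (S.ne_bot_of_dvd_card hd')
  have hN : Cfsg.pPrimeCore p M ≤ Cfsg.fittingHall M := by
    intro n hn
    have hc' : ((s : M) : G) * (n : G) = (n : G) * ((s : M) : G) := by
      have h1 : Disjoint T (Cfsg.pPrimeCore p M) := by
        refine disjoint_of_coprime_natCard ?_
        obtain ⟨k, hk⟩ := IsPGroup.iff_card.1 (S.isPGroup'.map (Cfsg.fittingHall M).subtype)
        rw [hT, hk]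
        exact (Cores.pPrimeCore_coprime (p := p)).symm.pow_left k
      exact congrArg Subtype.val (Subgroup.commute_of_normal_of_disjoint T _ hTn
        inferInstance h1 (s : M) n ⟨s, hs, rfl⟩ hn).eq
    obtain ⟨m, hm, e⟩ := hfrob _ ⟨(s : M), s.2, rfl⟩
      (fun e => hs1 (Subtype.ext (Subtype.ext e)))
      ⟨n.2, mem_centralizer_singleton_iff.2 hc'.symm⟩
    exact (Subtype.ext e : m = n) ▸ hm
  let e : ↥(Cfsg.fittingHall M) ≃* ↥(Cfsg.fittingHallOf M) :=
    (Cfsg.fittingHall M).equivMapOfInjective M.subtype M.subtype_injective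
  have hmap : (Cfsg.pPrimeCore p M).subgroupOf (Cfsg.fittingHall M) ≤
      Cfsg.pPrimeCore p ↥(Cfsg.fittingHall M) :=
    Cores.le_pPrimeCore inferInstance (by
      rw [Nat.card_congr (subgroupOfEquivOfLe hN).toEquiv]
      exact Cores.pPrimeCore_coprime)
  have := hcyc
  have : IsCyclic ↥((Cfsg.pPrimeCore p ↥(Cfsg.fittingHall M)).map e.toMonoidHom) :=
    (Cores.map_pPrimeCore_equiv e).symm ▸ hcyc
  have : IsCyclic ↥(Cfsg.pPrimeCore p ↥(Cfsg.fittingHall M)) :=
    isCyclic_of_surjective _ ((Cfsg.pPrimeCore p ↥(Cfsg.fittingHall M)).equivMapOfInjective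
      e.toMonoidHom e.injective).symm.surjective
  have : IsCyclic ↥((Cfsg.pPrimeCore p M).subgroupOf (Cfsg.fittingHall M)) :=
    isCyclic_of_injective _ (Subgroup.inclusion_injective hmap)
  exact isCyclic_of_surjective _ (subgroupOfEquivOfLe hN).surjective

end Cfsg.Agent.FT.BG16
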